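import Cfsg.Agent.CosetCert.Fi23Index31671.Defs
import Cfsg.Agent.CosetCert.Lower
import Cfsg.Agent.CosetCert.Fi23H10G.Pts0
import Cfsg.Agent.CosetCert.Fi23H10G.Pos0

/-! Generated: one base point with its orbit. -/

set_option Elab.async false
set_option maxRecDepth 100000

namespace Cfsg.Agent.CosetCert.Fi23H10G

noncomputable def level0 : Data.Level where
  gens := [
    [0],
    [1],
    [2],
    [3],
    [4],
    [5],
    [6],
    [7],
    [8],
    [9]]
  base := 140
  size := 31671
  pts := fun j => force (get48 ptsStore0 j) fun e =>
    Nat.add (Nat.mul (Nat.div e 268435456) 1099511627776) (Nat.mod e 268435456)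
  pos := get48 posStore0

theorem gens0_ok : Cfsg.Agent.CosetCert.Fi23Index31671.data.checkGens [] level0 = true := by decide +kernel

theorem pts0At0 : allFrom (Cfsg.Agent.CosetCert.Fi23Index31671.data.checkPoint level0) 0 2000 = true := by decide +kernel

theorem pts0At2000 : allFrom (Cfsg.Agent.CosetCert.Fi23Index31671.data.checkPoint level0) 2000 2000 = true := by decide +kernel

theorem pts0At4000 : allFrom (Cfsg.Agent.CosetCert.Fi23Index31671.data.checkPoint level0) 4000 2000 = true := by decide +kernel

theorem pts0At6000 : allFrom (Cfsg.Agent.CosetCert.Fi23Index31671.data.checkPoint level0) 6000 2000 = true := by decide +kernel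

theorem pts0At8000 : allFrom (Cfsg.Agent.CosetCert.Fi23Index31671.data.checkPoint level0) 8000 2000 = true := by decide +kernel

theorem pts0At10000 : allFrom (Cfsg.Agent.CosetCert.Fi23Index31671.data.checkPoint level0) 10000 2000 = true := by decide +kernel

theorem pts0At12000 : allFrom (Cfsg.Agent.CosetCert.Fi23Index31671.data.checkPoint level0) 12000 2000 = true := by decide +kernel

theorem pts0At14000 : allFrom (Cfsg.Agent.CosetCert.Fi23Index31671.data.checkPoint level0) 14000 2000 = true := by decide +kernel

theorem pts0At16000 : allFrom (Cfsg.Agent.CosetCert.Fi23Index31671.data.checkPoint level0) 16000 2000 = true := by decide +kernel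

theorem pts0At18000 : allFrom (Cfsg.Agent.CosetCert.Fi23Index31671.data.checkPoint level0) 18000 2000 = true := by decide +kernel

theorem pts0At20000 : allFrom (Cfsg.Agent.CosetCert.Fi23Index31671.data.checkPoint level0) 20000 2000 = true := by decide +kernel

theorem pts0At22000 : allFrom (Cfsg.Agent.CosetCert.Fi23Index31671.data.checkPoint level0) 22000 2000 = true := by decide +kernel

theorem pts0At24000 : allFrom (Cfsg.Agent.CosetCert.Fi23Index31671.data.checkPoint level0) 24000 2000 = true := by decide +kernel

theorem pts0At26000 : allFrom (Cfsg.Agent.CosetCert.Fi23Index31671.data.checkPoint level0) 26000 2000 = true := by decide +kernel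

theorem pts0At28000 : allFrom (Cfsg.Agent.CosetCert.Fi23Index31671.data.checkPoint level0) 28000 2000 = true := by decide +kernel

theorem pts0At30000 : allFrom (Cfsg.Agent.CosetCert.Fi23Index31671.data.checkPoint level0) 30000 1671 = true := by decide +kernel

theorem pts0_ok : ∀ j, j < 31671 → (Cfsg.Agent.CosetCert.Fi23Index31671.data.checkPoint level0) j = true := by
  have h0 : ∀ j, j < 0 → (Cfsg.Agent.CosetCert.Fi23Index31671.data.checkPoint level0) j = true := forall_lt_zero
  have h1 := forall_lt_step (b := 2000) h0 pts0At0 rfl
  have h2 := forall_lt_step (b := 4000) h1 pts0At2000 rfl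
  have h3 := forall_lt_step (b := 6000) h2 pts0At4000 rfl
  have h4 := forall_lt_step (b := 8000) h3 pts0At6000 rfl
  have h5 := forall_lt_step (b := 10000) h4 pts0At8000 rfl
  have h6 := forall_lt_step (b := 12000) h5 pts0At10000 rfl
  have h7 := forall_lt_step (b := 14000) h6 pts0At12000 rfl
  have h8 := forall_lt_step (b := 16000) h7 pts0At14000 rfl
  have h9 := forall_lt_step (b := 18000) h8 pts0At16000 rfl
  have h10 := forall_lt_step (b := 20000) h9 pts0At18000 rfl
  have h11 := forall_lt_step (b := 22000) h10 pts0At20000 rfl
  have h12 := forall_lt_step (b := 24000) h11 pts0At22000 rfl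
  have h13 := forall_lt_step (b := 26000) h12 pts0At24000 rfl
  have h14 := forall_lt_step (b := 28000) h13 pts0At26000 rfl
  have h15 := forall_lt_step (b := 30000) h14 pts0At28000 rfl
  have h16 := forall_lt_step (b := 31671) h15 pts0At30000 rfl
  exact h16

end Cfsg.Agent.CosetCert.Fi23H10G
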