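import Cfsg.Agent.CosetCert.Fi23Index31671.Defs
import Cfsg.Agent.CosetCert.Lower
import Cfsg.Agent.CosetCert.Fi23H10G.Pts1
import Cfsg.Agent.CosetCert.Fi23H10G.Pos1

/-! Generated: one base point with its orbit. -/

set_option Elab.async false
set_option maxRecDepth 100000

namespace Cfsg.Agent.CosetCert.Fi23H10G

noncomputable def level1 : Data.Level where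
  gens := [
    [1, 2, 3, 8, 9, 4, 3, 8, 4, 5, 6, 3, 4, 5, 2, 3, 4, 1, 2, 3, 8, 9, 8, 4, 5, 3, 4, 1, 2, 3, 8, 0, 1, 2, 3, 4, 5, 6, 7, 1, 2, 3, 4, 5, 6, 8, 1, 2, 3, 4, 5, 6, 8, 1, 2, 3, 4, 5, 6, 8, 1, 2, 3, 4, 5, 6, 8, 1, 2, 3, 4, 5, 6, 8, 1, 2, 3, 4, 5, 6, 8, 1, 2, 3, 4, 5, 6, 8, 1, 2, 3, 4, 5, 6, 8, 1, 2, 3, 4, 5, 6, 8, 7, 6, 5, 4, 3, 2, 1, 0, 8, 3, 2, 1, 4, 3, 5, 4, 8, 9, 8, 3, 2, 1, 4, 3, 2, 5, 4, 3, 6, 5, 4, 8, 3, 4, 9, 8, 3, 2, 1],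
    [8, 9, 4, 3, 8, 5, 6, 4, 5, 3, 4, 2, 3, 8, 1, 2, 3, 4, 5, 6, 7, 1, 2, 3, 4, 5, 6, 8, 1, 2, 3, 4, 5, 6, 8, 1, 2, 3, 4, 5, 6, 8, 1, 2, 3, 4, 5, 6, 8, 1, 2, 3, 4, 5, 6, 8, 1, 2, 3, 4, 5, 6, 8, 1, 2, 3, 4, 5, 6, 8, 1, 2, 3, 4, 5, 6, 8, 1, 2, 3, 4, 5, 6, 8, 7, 6, 5, 4, 3, 2, 1, 8, 3, 2, 4, 3, 5, 4, 6, 5, 8, 3, 4, 9, 8],
    [3, 4, 5, 2, 3, 4, 1, 2, 3, 8, 9, 5, 2, 3, 4, 1, 2, 3, 8, 0, 1, 2, 3, 4, 5, 6, 7, 1, 2, 3, 4, 5, 6, 8, 1, 2, 3, 4, 5, 6, 8, 1, 2, 3, 4, 5, 6, 8, 1, 2, 3, 4, 5, 6, 8, 1, 2, 3, 4, 5, 6, 8, 1, 2, 3, 4, 5, 6, 8, 1, 2, 3, 4, 5, 6, 8, 1, 2, 3, 4, 5, 6, 8, 1, 2, 3, 4, 5, 6, 8, 7, 6, 5, 4, 3, 2, 1, 0, 8, 3, 2, 1, 4, 3, 2, 5, 9, 8, 3, 2, 1, 4, 3, 2, 5, 4, 3],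
    [4, 2, 3, 8, 4, 5, 6, 3, 4, 5, 2, 3, 4, 1, 2, 3, 8, 9, 3, 4, 1, 2, 3, 8, 0, 1, 2, 3, 4, 5, 6, 7, 1, 2, 3, 4, 5, 6, 8, 1, 2, 3, 4, 5, 6, 8, 1, 2, 3, 4, 5, 6, 8, 1, 2, 3, 4, 5, 6, 8, 1, 2, 3, 4, 5, 6, 8, 1, 2, 3, 4, 5, 6, 8, 1, 2, 3, 4, 5, 6, 8, 1, 2, 3, 4, 5, 6, 8, 1, 2, 3, 4, 5, 6, 8, 7, 6, 5, 4, 3, 2, 1, 0, 8, 3, 2, 1, 4, 3, 9, 8, 3, 2, 1, 4, 3, 2, 5, 4, 3, 6, 5, 4, 8, 3, 2, 4],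
    [9, 0, 1, 2, 3, 8, 4, 5, 2, 3, 4, 1, 2, 3, 8, 9, 4, 5, 2, 3, 4, 1, 2, 3, 8, 0, 1, 2, 3, 4, 5, 6, 7, 1, 2, 3, 4, 5, 6, 8, 1, 2, 3, 4, 5, 6, 8, 1, 2, 3, 4, 5, 6, 8, 1, 2, 3, 4, 5, 6, 8, 1, 2, 3, 4, 5, 6, 8, 1, 2, 3, 4, 5, 6, 8, 1, 2, 3, 4, 5, 6, 8, 1, 2, 3, 4, 5, 6, 8, 1, 2, 3, 4, 5, 6, 8, 7, 6, 5, 4, 3, 2, 1, 0, 8, 3, 2, 1, 4, 3, 2, 5, 4, 9, 8, 3, 2, 1, 4, 3, 2, 5, 4, 8, 3, 2, 1, 0, 9],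
    [8, 3, 4, 1, 2, 3, 8, 9, 8, 6, 7, 5, 6, 4, 5, 2, 3, 4, 1, 2, 3, 8, 0, 1, 2, 3, 4, 5, 6, 7, 1, 2, 3, 4, 5, 6, 8, 1, 2, 3, 4, 5, 6, 8, 1, 2, 3, 4, 5, 6, 8, 1, 2, 3, 4, 5, 6, 8, 1, 2, 3, 4, 5, 6, 8, 1, 2, 3, 4, 5, 6, 8, 1, 2, 3, 4, 5, 6, 8, 1, 2, 3, 4, 5, 6, 8, 1, 2, 3, 4, 5, 6, 8, 7, 6, 5, 4, 3, 2, 1, 0, 8, 3, 2, 1, 4, 3, 2, 5, 4, 6, 5, 7, 6, 8, 9, 8, 3, 2, 1, 4, 3, 8],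
    [9, 8, 2, 3, 4, 0, 1, 2, 3, 8, 9, 6, 4, 5, 3, 4, 1, 2, 3, 8, 0, 1, 2, 3, 4, 5, 6, 7, 1, 2, 3, 4, 5, 6, 8, 1, 2, 3, 4, 5, 6, 8, 1, 2, 3, 4, 5, 6, 8, 1, 2, 3, 4, 5, 6, 8, 1, 2, 3, 4, 5, 6, 8, 1, 2, 3, 4, 5, 6, 8, 1, 2, 3, 4, 5, 6, 8, 1, 2, 3, 4, 5, 6, 8, 1, 2, 3, 4, 5, 6, 8, 7, 6, 5, 4, 3, 2, 1, 0, 8, 3, 2, 1, 4, 3, 5, 4, 6, 9, 8, 3, 2, 1, 0, 4, 3, 2, 8, 9],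
    [8, 3, 4, 2, 3, 8, 9, 5, 4, 2, 3, 8, 6, 4, 5, 2, 3, 4, 0, 1, 2, 3, 8, 9, 5, 2, 3, 4, 1, 2, 3, 8, 0, 1, 2, 3, 4, 5, 6, 7, 1, 2, 3, 4, 5, 6, 8, 1, 2, 3, 4, 5, 6, 8, 1, 2, 3, 4, 5, 6, 8, 1, 2, 3, 4, 5, 6, 8, 1, 2, 3, 4, 5, 6, 8, 1, 2, 3, 4, 5, 6, 8, 1, 2, 3, 4, 5, 6, 8, 1, 2, 3, 4, 5, 6, 8, 1, 2, 3, 4, 5, 6, 8, 7, 6, 5, 4, 3, 2, 1, 0, 8, 3, 2, 1, 4, 3, 2, 5, 9, 8, 3, 2, 1, 0, 4, 3, 2, 5, 4, 6, 8, 3, 2, 4, 5, 9, 8, 3, 2, 4, 3, 8],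
    [6, 5, 4, 2, 3, 8, 9, 5, 6, 4, 5, 2, 3, 4, 1, 2, 3, 8, 0, 1, 2, 3, 4, 5, 6, 7, 1, 2, 3, 4, 5, 6, 8, 1, 2, 3, 4, 5, 6, 8, 1, 2, 3, 4, 5, 6, 8, 1, 2, 3, 4, 5, 6, 8, 1, 2, 3, 4, 5, 6, 8, 1, 2, 3, 4, 5, 6, 8, 1, 2, 3, 4, 5, 6, 8, 1, 2, 3, 4, 5, 6, 8, 1, 2, 3, 4, 5, 6, 8, 7, 6, 5, 4, 3, 2, 1, 0, 8, 3, 2, 1, 4, 3, 2, 5, 4, 6, 5, 9, 8, 3, 2, 4, 5, 6],
    [5, 4, 1, 2, 3, 8, 9, 6, 5, 4, 3, 8, 6, 7, 5, 6, 4, 5, 2, 3, 4, 1, 2, 3, 8, 9, 4, 5, 2, 3, 4, 1, 2, 3, 8, 0, 1, 2, 3, 4, 5, 6, 7, 1, 2, 3, 4, 5, 6, 8, 1, 2, 3, 4, 5, 6, 8, 1, 2, 3, 4, 5, 6, 8, 1, 2, 3, 4, 5, 6, 8, 1, 2, 3, 4, 5, 6, 8, 1, 2, 3, 4, 5, 6, 8, 1, 2, 3, 4, 5, 6, 8, 1, 2, 3, 4, 5, 6, 8, 1, 2, 3, 4, 5, 6, 8, 7, 6, 5, 4, 3, 2, 1, 0, 8, 3, 2,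 1, 4, 3, 2, 5, 4, 9, 8, 3, 2, 1, 4, 3, 2, 5, 4, 6, 5, 7, 6, 8, 3, 4, 5, 6, 9, 8, 3, 2, 1, 4, 5],
    [3, 8, 2, 3, 4, 1, 2, 3, 8, 9, 8, 3, 4, 2, 3, 8, 1, 2, 3, 4, 5, 6, 7, 1, 2, 3, 4, 5, 6, 8, 1, 2, 3, 4, 5, 6, 8, 1, 2, 3, 4, 5, 6, 8, 1, 2, 3, 4, 5, 6, 8, 1, 2, 3, 4, 5, 6, 8, 1, 2, 3, 4, 5, 6, 8, 1, 2, 3, 4, 5, 6, 8, 1, 2, 3, 4, 5, 6, 8, 1, 2, 3, 4, 5, 6, 8, 7, 6, 5, 4, 3, 2, 1, 8, 3, 2, 4, 3, 8, 9, 8, 3, 2, 1, 4, 3, 2, 8, 3],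
    [9, 8, 2, 3, 4, 0, 1, 2, 3, 8, 9, 4, 5, 2, 3, 4, 1, 2, 3, 8, 0, 1, 2, 3, 4, 5, 6, 7, 1, 2, 3, 4, 5, 6, 8, 1, 2, 3, 4, 5, 6, 8, 1, 2, 3, 4, 5, 6, 8, 1, 2, 3, 4, 5, 6, 8, 1, 2, 3, 4, 5, 6, 8, 1, 2, 3, 4, 5, 6, 8, 1, 2, 3, 4, 5, 6, 8, 1, 2, 3, 4, 5, 6, 8, 1, 2, 3, 4, 5, 6, 8, 7, 6, 5, 4, 3, 2, 1, 0, 8, 3, 2, 1, 4, 3, 2, 5, 4, 9, 8, 3, 2, 1, 0, 4, 3, 2, 8, 9],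
    [4, 5, 3, 4, 1, 2, 3, 8, 9, 6, 4, 5, 2, 3, 4, 1, 2, 3, 8, 0, 1, 2, 3, 4, 5, 6, 7, 1, 2, 3, 4, 5, 6, 8, 1, 2, 3, 4, 5, 6, 8, 1, 2, 3, 4, 5, 6, 8, 1, 2, 3, 4, 5, 6, 8, 1, 2, 3, 4, 5, 6, 8, 1, 2, 3, 4, 5, 6, 8, 1, 2, 3, 4, 5, 6, 8, 1, 2, 3, 4, 5, 6, 8, 1, 2, 3, 4, 5, 6, 8, 7, 6, 5, 4, 3, 2, 1, 0, 8, 3, 2, 1, 4, 3, 2, 5, 4, 6, 9, 8, 3, 2, 1, 4, 3, 5, 4],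
    [4, 3, 8, 9, 7, 6, 5, 4, 2, 3, 8, 1, 2, 3, 4, 5, 6, 7, 1, 2, 3, 4, 5, 6, 8, 1, 2, 3, 4, 5, 6, 8, 1, 2, 3, 4, 5, 6, 8, 1, 2, 3, 4, 5, 6, 8, 1, 2, 3, 4, 5, 6, 8, 1, 2, 3, 4, 5, 6, 8, 1, 2, 3, 4, 5, 6, 8, 1, 2, 3, 4, 5, 6, 8, 1, 2, 3, 4, 5, 6, 8, 7, 6, 5, 4, 3, 2, 1, 8, 3, 2, 4, 5, 6, 7, 9, 8, 3, 4]]
  base := 488
  size := 3510
  pts := fun j => force (get48 ptsStore1 j) fun e =>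
    Nat.add (Nat.mul (Nat.div e 268435456) 1099511627776) (Nat.mod e 268435456)
  pos := get48 posStore1

theorem gens1_ok : Cfsg.Agent.CosetCert.Fi23Index31671.data.checkGens [140] level1 = true := by decide +kernel

theorem pts1At0 : allFrom (Cfsg.Agent.CosetCert.Fi23Index31671.data.checkPoint level1) 0 500 = true := by decide +kernel

theorem pts1At500 : allFrom (Cfsg.Agent.CosetCert.Fi23Index31671.data.checkPoint level1) 500 500 = true := by decide +kernel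

theorem pts1At1000 : allFrom (Cfsg.Agent.CosetCert.Fi23Index31671.data.checkPoint level1) 1000 500 = true := by decide +kernel

theorem pts1At1500 : allFrom (Cfsg.Agent.CosetCert.Fi23Index31671.data.checkPoint level1) 1500 500 = true := by decide +kernel

theorem pts1At2000 : allFrom (Cfsg.Agent.CosetCert.Fi23Index31671.data.checkPoint level1) 2000 500 = true := by decide +kernel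

theorem pts1At2500 : allFrom (Cfsg.Agent.CosetCert.Fi23Index31671.data.checkPoint level1) 2500 500 = true := by decide +kernel

theorem pts1At3000 : allFrom (Cfsg.Agent.CosetCert.Fi23Index31671.data.checkPoint level1) 3000 500 = true := by decide +kernel

theorem pts1At3500 : allFrom (Cfsg.Agent.CosetCert.Fi23Index31671.data.checkPoint level1) 3500 10 = true := by decide +kernel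

theorem pts1_ok : ∀ j, j < 3510 → (Cfsg.Agent.CosetCert.Fi23Index31671.data.checkPoint level1) j = true := by
  have h0 : ∀ j, j < 0 → (Cfsg.Agent.CosetCert.Fi23Index31671.data.checkPoint level1) j = true := forall_lt_zero
  have h1 := forall_lt_step (b := 500) h0 pts1At0 rfl
  have h2 := forall_lt_step (b := 1000) h1 pts1At500 rfl
  have h3 := forall_lt_step (b := 1500) h2 pts1At1000 rfl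
  have h4 := forall_lt_step (b := 2000) h3 pts1At1500 rfl
  have h5 := forall_lt_step (b := 2500) h4 pts1At2000 rfl
  have h6 := forall_lt_step (b := 3000) h5 pts1At2500 rfl
  have h7 := forall_lt_step (b := 3500) h6 pts1At3000 rfl
  have h8 := forall_lt_step (b := 3510) h7 pts1At3500 rfl
  exact h8

end Cfsg.Agent.CosetCert.Fi23H10G
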