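import Cfsg.Agent.CosetCert.Fi23Index31671.Defs
import Cfsg.Agent.CosetCert.Lower
import Cfsg.Agent.CosetCert.Fi23H10G.Pts2
import Cfsg.Agent.CosetCert.Fi23H10G.Pos2

/-! Generated: one base point with its orbit. -/

set_option Elab.async false
set_option maxRecDepth 100000

namespace Cfsg.Agent.CosetCert.Fi23H10G

noncomputable def level2 : Data.Level where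
  gens := [
    [4, 1, 2, 3, 8, 9, 7, 6, 5, 4, 2, 3, 8, 5, 6, 4, 5, 2, 3, 4, 1, 2, 3, 8, 9, 5, 2, 3, 4, 1, 2, 3, 8, 0, 1, 2, 3, 4, 5, 6, 7, 1, 2, 3, 4, 5, 6, 8, 1, 2, 3, 4, 5, 6, 8, 1, 2, 3, 4, 5, 6, 8, 1, 2, 3, 4, 5, 6, 8, 1, 2, 3, 4, 5, 6, 8, 1, 2, 3, 4, 5, 6, 8, 1, 2, 3, 4, 5, 6, 8, 1, 2, 3, 4, 5, 6, 8, 1, 2, 3, 4, 5, 6, 8, 7, 6, 5, 4, 3, 2, 1, 0, 8, 3, 2, 1, 4, 3, 2, 5, 9, 8, 3, 2, 1, 4, 3, 2, 5, 4, 6, 5, 8, 3, 2, 4, 5, 6, 7, 9, 8, 3, 2, 1, 4],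
    [7, 6, 4, 5, 2, 3, 4, 0, 1, 2, 3, 8, 9, 5, 3, 4, 1, 2, 3, 8, 0, 1, 2, 3, 4, 5, 6, 7, 1, 2, 3, 4, 5, 6, 8, 1, 2, 3, 4, 5, 6, 8, 1, 2, 3, 4, 5, 6, 8, 1, 2, 3, 4, 5, 6, 8, 1, 2, 3, 4, 5, 6, 8, 1, 2, 3, 4, 5, 6, 8, 1, 2, 3, 4, 5, 6, 8, 1, 2, 3, 4, 5, 6, 8, 1, 2, 3, 4, 5, 6, 8, 7, 6, 5, 4, 3, 2, 1, 0, 8, 3, 2, 1, 4, 3, 5, 9, 8, 3, 2, 1, 0, 4, 3, 2, 5, 4, 6, 7],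
    [9, 8, 6, 3, 4, 5, 2, 3, 4, 1, 2, 3, 8, 9, 6, 5, 4, 2, 3, 8, 0, 1, 2, 3, 4, 5, 6, 7, 1, 2, 3, 4, 5, 6, 8, 1, 2, 3, 4, 5, 6, 8, 1, 2, 3, 4, 5, 6, 8, 1, 2, 3, 4, 5, 6, 8, 1, 2, 3, 4, 5, 6, 8, 1, 2, 3, 4, 5, 6, 8, 1, 2, 3, 4, 5, 6, 8, 1, 2, 3, 4, 5, 6, 8, 1, 2, 3, 4, 5, 6, 8, 7, 6, 5, 4, 3, 2, 1, 0, 8, 3, 2, 4, 5, 6, 9, 8, 3, 2, 1, 4, 3, 2, 5, 4, 3, 6, 8, 9],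
    [9, 8, 2, 3, 4, 1, 2, 3, 8, 9, 8, 5, 3, 4, 1, 2, 3, 8, 0, 1, 2, 3, 4, 5, 6, 7, 1, 2, 3, 4, 5, 6, 8, 1, 2, 3, 4, 5, 6, 8, 1, 2, 3, 4, 5, 6, 8, 1, 2, 3, 4, 5, 6, 8, 1, 2, 3, 4, 5, 6, 8, 1, 2, 3, 4, 5, 6, 8, 1, 2, 3, 4, 5, 6, 8, 1, 2, 3, 4, 5, 6, 8, 1, 2, 3, 4, 5, 6, 8, 7, 6, 5, 4, 3, 2, 1, 0, 8, 3, 2, 1, 4, 3, 5, 8, 9, 8, 3, 2, 1, 4, 3, 2, 8, 9],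
    [6, 5, 4, 1, 2, 3, 8, 9, 5, 6, 4, 5, 3, 4, 2, 3, 8, 0, 1, 2, 3, 4, 5, 6, 7, 1, 2, 3, 4, 5, 6, 8, 1, 2, 3, 4, 5, 6, 8, 1, 2, 3, 4, 5, 6, 8, 1, 2, 3, 4, 5, 6, 8, 1, 2, 3, 4, 5, 6, 8, 1, 2, 3, 4, 5, 6, 8, 1, 2, 3, 4, 5, 6, 8, 1, 2, 3, 4, 5, 6, 8, 1, 2, 3, 4, 5, 6, 8, 7, 6, 5, 4, 3, 2, 1, 0, 8, 3, 2, 4, 3, 5, 4, 6, 5, 9, 8, 3, 2, 1, 4, 5, 6],
    [9, 8, 6, 3, 4, 5, 2, 3, 4, 1, 2, 3, 8, 9, 6, 5, 3, 4, 2, 3, 8, 0, 1, 2, 3, 4, 5, 6, 7, 1, 2, 3, 4, 5, 6, 8, 1, 2, 3, 4, 5, 6, 8, 1, 2, 3, 4, 5, 6, 8, 1, 2, 3, 4, 5, 6, 8, 1, 2, 3, 4, 5, 6, 8, 1, 2, 3, 4, 5, 6, 8, 1, 2, 3, 4, 5, 6, 8, 1, 2, 3, 4, 5, 6, 8, 1, 2, 3, 4, 5, 6, 8, 7, 6, 5, 4, 3, 2, 1, 0, 8, 3, 2, 4, 3, 5, 6, 9, 8, 3, 2, 1, 4, 3,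 2, 5, 4, 3, 6, 8, 9],
    [4, 5, 1, 2, 3, 4, 0, 1, 2, 3, 8, 9, 8, 5, 2, 3, 4, 1, 2, 3, 8, 0, 1, 2, 3, 4, 5, 6, 7, 1, 2, 3, 4, 5, 6, 8, 1, 2, 3, 4, 5, 6, 8, 1, 2, 3, 4, 5, 6, 8, 1, 2, 3, 4, 5, 6, 8, 1, 2, 3, 4, 5, 6, 8, 1, 2, 3, 4, 5, 6, 8, 1, 2, 3, 4, 5, 6, 8, 1, 2, 3, 4, 5, 6, 8, 1, 2, 3, 4, 5, 6, 8, 7, 6, 5, 4, 3, 2, 1, 0, 8, 3, 2, 1, 4, 3, 2, 5, 8, 9, 8, 3, 2, 1, 0, 4, 3, 2, 1, 5, 4],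
    [3, 4, 2, 3, 8, 9, 5, 4, 3, 8, 7, 6, 3, 4, 5, 2, 3, 4, 1, 2, 3, 8, 9, 4, 5, 2, 3, 4, 1, 2, 3, 8, 0, 1, 2, 3, 4, 5, 6, 7, 1, 2, 3, 4, 5, 6, 8, 1, 2, 3, 4, 5, 6, 8, 1, 2, 3, 4, 5, 6, 8, 1, 2, 3, 4, 5, 6, 8, 1, 2, 3, 4, 5, 6, 8, 1, 2, 3, 4, 5, 6, 8, 1, 2, 3, 4, 5, 6, 8, 1, 2, 3, 4, 5, 6, 8, 1, 2, 3, 4, 5, 6, 8, 7, 6, 5, 4, 3, 2, 1, 0, 8, 3, 2, 1, 4, 3, 2, 5, 4, 9, 8, 3, 2, 1, 4, 3, 2, 5, 4, 3, 6, 7, 8, 3, 4, 5, 9, 8, 3, 2, 4, 3],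
    [9, 8, 6, 7, 5, 6, 4, 5, 3, 4, 1, 2, 3, 8, 9, 6, 5, 3, 4, 1, 2, 3, 8, 0, 1, 2, 3, 4, 5, 6, 7, 1, 2, 3, 4, 5, 6, 8, 1, 2, 3, 4, 5, 6, 8, 1, 2, 3, 4, 5, 6, 8, 1, 2, 3, 4, 5, 6, 8, 1, 2, 3, 4, 5, 6, 8, 1, 2, 3, 4, 5, 6, 8, 1, 2, 3, 4, 5, 6, 8, 1, 2, 3, 4, 5, 6, 8, 1, 2, 3, 4, 5, 6, 8, 7, 6, 5, 4, 3, 2, 1, 0, 8, 3, 2, 1, 4, 3, 5, 6, 9, 8, 3, 2, 1, 4, 3, 5, 4, 6, 5, 7, 6, 8, 9],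
    [8, 4, 5, 3, 4, 2, 3, 8, 9, 4, 1, 2, 3, 8, 0, 1, 2, 3, 4, 5, 6, 7, 1, 2, 3, 4, 5, 6, 8, 1, 2, 3, 4, 5, 6, 8, 1, 2, 3, 4, 5, 6, 8, 1, 2, 3, 4, 5, 6, 8, 1, 2, 3, 4, 5, 6, 8, 1, 2, 3, 4, 5, 6, 8, 1, 2, 3, 4, 5, 6, 8, 1, 2, 3, 4, 5, 6, 8, 1, 2, 3, 4, 5, 6, 8, 7, 6, 5, 4, 3, 2, 1, 0, 8, 3, 2, 1, 4, 9, 8, 3, 2, 4, 3, 5, 4, 8],
    [1, 2, 3, 8, 9, 3, 4, 2, 3, 8, 5, 6, 4, 5, 2, 3, 4, 1, 2, 3, 8, 9, 6, 5, 3, 4, 1, 2, 3, 8, 0, 1, 2, 3, 4, 5, 6, 7, 1, 2, 3, 4, 5, 6, 8, 1, 2, 3, 4, 5, 6, 8, 1, 2, 3, 4, 5, 6, 8, 1, 2, 3, 4, 5, 6, 8, 1, 2, 3, 4, 5, 6, 8, 1, 2, 3, 4, 5, 6, 8, 1, 2, 3, 4, 5, 6, 8, 1, 2, 3, 4, 5, 6, 8, 1, 2, 3, 4, 5, 6, 8, 7, 6, 5, 4, 3, 2, 1, 0, 8, 3, 2, 1, 4, 3, 5, 6, 9, 8, 3,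 2, 1, 4, 3, 2, 5, 4, 6, 5, 8, 3, 2, 4, 3, 9, 8, 3, 2, 1],
    [9, 6, 5, 4, 3, 8, 2, 3, 4, 1, 2, 3, 8, 9, 6, 5, 3, 4, 1, 2, 3, 8, 0, 1, 2, 3, 4, 5, 6, 7, 1, 2, 3, 4, 5, 6, 8, 1, 2, 3, 4, 5, 6, 8, 1, 2, 3, 4, 5, 6, 8, 1, 2, 3, 4, 5, 6, 8, 1, 2, 3, 4, 5, 6, 8, 1, 2, 3, 4, 5, 6, 8, 1, 2, 3, 4, 5, 6, 8, 1, 2, 3, 4, 5, 6, 8, 1, 2, 3, 4, 5, 6, 8, 7, 6, 5, 4, 3, 2, 1, 0, 8, 3, 2, 1, 4, 3, 5, 6, 9, 8, 3, 2, 1, 4, 3, 2, 8, 3, 4, 5, 6, 9],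
    [2, 3, 4, 1, 2, 3, 8, 9, 3, 4, 2, 3, 8, 4, 5, 6, 3, 4, 5, 2, 3, 4, 1, 2, 3, 8, 9, 8, 6, 5, 2, 3, 4, 1, 2, 3, 8, 0, 1, 2, 3, 4, 5, 6, 7, 1, 2, 3, 4, 5, 6, 8, 1, 2, 3, 4, 5, 6, 8, 1, 2, 3, 4, 5, 6, 8, 1, 2, 3, 4, 5, 6, 8, 1, 2, 3, 4, 5, 6, 8, 1, 2, 3, 4, 5, 6, 8, 1, 2, 3, 4, 5, 6, 8, 1, 2, 3, 4, 5, 6, 8, 1, 2, 3, 4, 5, 6, 8, 7, 6, 5, 4, 3, 2, 1, 0, 8, 3, 2, 1, 4, 3, 2, 5, 6, 8, 9, 8, 3, 2, 1, 4, 3, 2, 5, 4, 3, 6, 5, 4, 8, 3, 2, 4, 3, 9, 8, 3, 2, 1, 4, 3, 2],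
    [6, 7, 5, 6, 4, 5, 2, 3, 4, 0, 1, 2, 3, 8, 9, 4, 5, 2, 3, 4, 1, 2, 3, 8, 0, 1, 2, 3, 4, 5, 6, 7, 1, 2, 3, 4, 5, 6, 8, 1, 2, 3, 4, 5, 6, 8, 1, 2, 3, 4, 5, 6, 8, 1, 2, 3, 4, 5, 6, 8, 1, 2, 3, 4, 5, 6, 8, 1, 2, 3, 4, 5, 6, 8, 1, 2, 3, 4, 5, 6, 8, 1, 2, 3, 4, 5, 6, 8, 1, 2, 3, 4, 5, 6, 8, 7, 6, 5, 4, 3, 2, 1, 0, 8, 3, 2, 1, 4, 3, 2, 5, 4, 9, 8, 3, 2, 1, 0, 4, 3, 2, 5, 4, 6, 5, 7, 6]]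
  base := 1126
  size := 2816
  pts := fun j => force (get48 ptsStore2 j) fun e =>
    Nat.add (Nat.mul (Nat.div e 268435456) 1099511627776) (Nat.mod e 268435456)
  pos := get48 posStore2

theorem gens2_ok : Cfsg.Agent.CosetCert.Fi23Index31671.data.checkGens [140, 488] level2 = true := by decide +kernel

theorem pts2At0 : allFrom (Cfsg.Agent.CosetCert.Fi23Index31671.data.checkPoint level2) 0 500 = true := by decide +kernel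

theorem pts2At500 : allFrom (Cfsg.Agent.CosetCert.Fi23Index31671.data.checkPoint level2) 500 500 = true := by decide +kernel

theorem pts2At1000 : allFrom (Cfsg.Agent.CosetCert.Fi23Index31671.data.checkPoint level2) 1000 500 = true := by decide +kernel

theorem pts2At1500 : allFrom (Cfsg.Agent.CosetCert.Fi23Index31671.data.checkPoint level2) 1500 500 = true := by decide +kernel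

theorem pts2At2000 : allFrom (Cfsg.Agent.CosetCert.Fi23Index31671.data.checkPoint level2) 2000 500 = true := by decide +kernel

theorem pts2At2500 : allFrom (Cfsg.Agent.CosetCert.Fi23Index31671.data.checkPoint level2) 2500 316 = true := by decide +kernel

theorem pts2_ok : ∀ j, j < 2816 → (Cfsg.Agent.CosetCert.Fi23Index31671.data.checkPoint level2) j = true := by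
  have h0 : ∀ j, j < 0 → (Cfsg.Agent.CosetCert.Fi23Index31671.data.checkPoint level2) j = true := forall_lt_zero
  have h1 := forall_lt_step (b := 500) h0 pts2At0 rfl
  have h2 := forall_lt_step (b := 1000) h1 pts2At500 rfl
  have h3 := forall_lt_step (b := 1500) h2 pts2At1000 rfl
  have h4 := forall_lt_step (b := 2000) h3 pts2At1500 rfl
  have h5 := forall_lt_step (b := 2500) h4 pts2At2000 rfl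
  have h6 := forall_lt_step (b := 2816) h5 pts2At2500 rfl
  exact h6

end Cfsg.Agent.CosetCert.Fi23H10G
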