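import Cfsg.Agent.CosetCert.Fi23Index31671.Defs
import Cfsg.Agent.CosetCert.Lower
import Cfsg.Agent.CosetCert.Fi23H10G.Pts3
import Cfsg.Agent.CosetCert.Fi23H10G.Pos3

/-! Generated: one base point with its orbit. -/

set_option Elab.async false
set_option maxRecDepth 100000

namespace Cfsg.Agent.CosetCert.Fi23H10G

noncomputable def level3 : Data.Level where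
  gens := [
    [8, 7, 6, 4, 5, 3, 4, 0, 1, 2, 3, 8, 9, 6, 5, 3, 4, 1, 2, 3, 8, 0, 1, 2, 3, 4, 5, 6, 7, 1, 2, 3, 4, 5, 6, 8, 1, 2, 3, 4, 5, 6, 8, 1, 2, 3, 4, 5, 6, 8, 1, 2, 3, 4, 5, 6, 8, 1, 2, 3, 4, 5, 6, 8, 1, 2, 3, 4, 5, 6, 8, 1, 2, 3, 4, 5, 6, 8, 1, 2, 3, 4, 5, 6, 8, 1, 2, 3, 4, 5, 6, 8, 7, 6, 5, 4, 3, 2, 1, 0, 8, 3, 2, 1, 4, 3, 5, 6, 9, 8, 3, 2, 1, 0, 4, 3, 5, 4, 6, 7, 8],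
    [6, 4, 5, 3, 4, 1, 2, 3, 8, 9, 6, 5, 4, 1, 2, 3, 8, 0, 1, 2, 3, 4, 5, 6, 7, 1, 2, 3, 4, 5, 6, 8, 1, 2, 3, 4, 5, 6, 8, 1, 2, 3, 4, 5, 6, 8, 1, 2, 3, 4, 5, 6, 8, 1, 2, 3, 4, 5, 6, 8, 1, 2, 3, 4, 5, 6, 8, 1, 2, 3, 4, 5, 6, 8, 1, 2, 3, 4, 5, 6, 8, 1, 2, 3, 4, 5, 6, 8, 7, 6, 5, 4, 3, 2, 1, 0, 8, 3, 2, 1, 4, 5, 6, 9, 8, 3, 2, 1, 4, 3, 5, 4, 6],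
    [8, 3, 4, 2, 3, 8, 7, 5, 6, 4, 5, 3, 4, 2, 3, 8, 1, 2, 3, 4, 5, 6, 7, 1, 2, 3, 4, 5, 6, 8, 1, 2, 3, 4, 5, 6, 8, 1, 2, 3, 4, 5, 6, 8, 1, 2, 3, 4, 5, 6, 8, 1, 2, 3, 4, 5, 6, 8, 1, 2, 3, 4, 5, 6, 8, 1, 2, 3, 4, 5, 6, 8, 1, 2, 3, 4, 5, 6, 8, 1, 2, 3, 4, 5, 6, 8, 7, 6, 5, 4, 3, 2, 1, 8, 3, 2, 4, 3, 5, 4, 6, 5, 7, 8, 3, 2, 4, 3, 8],
    [4, 3, 8, 2, 3, 4, 1, 2, 3, 8, 9, 3, 4, 5, 2, 3, 4, 1, 2, 3, 8, 0, 1, 2, 3, 4, 5, 6, 7, 1, 2, 3, 4, 5, 6, 8, 1, 2, 3, 4, 5, 6, 8, 1, 2, 3, 4, 5, 6, 8, 1, 2, 3, 4, 5, 6, 8, 1, 2, 3, 4, 5, 6, 8, 1, 2, 3, 4, 5, 6, 8, 1, 2, 3, 4, 5, 6, 8, 1, 2, 3, 4, 5, 6, 8, 1, 2, 3, 4, 5, 6, 8, 7, 6, 5, 4, 3, 2, 1, 0, 8, 3, 2, 1, 4, 3, 2, 5, 4, 3, 9, 8, 3, 2, 1,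 4, 3, 2, 8, 3, 4],
    [8, 4, 5, 2, 3, 4, 0, 1, 2, 3, 8, 9, 8, 3, 4, 2, 3, 8, 1, 2, 3, 4, 5, 6, 7, 1, 2, 3, 4, 5, 6, 8, 1, 2, 3, 4, 5, 6, 8, 1, 2, 3, 4, 5, 6, 8, 1, 2, 3, 4, 5, 6, 8, 1, 2, 3, 4, 5, 6, 8, 1, 2, 3, 4, 5, 6, 8, 1, 2, 3, 4, 5, 6, 8, 1, 2, 3, 4, 5, 6, 8, 1, 2, 3, 4, 5, 6, 8, 7, 6, 5, 4, 3, 2, 1, 8, 3, 2, 4, 3, 8, 9, 8, 3, 2, 1, 0, 4, 3, 2, 5, 4, 8],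
    [2, 3, 8, 9, 4, 5, 3, 4, 1, 2, 3, 8, 0, 1, 2, 3, 4, 5, 6, 7, 1, 2, 3, 4, 5, 6, 8, 1, 2, 3, 4, 5, 6, 8, 1, 2, 3, 4, 5, 6, 8, 1, 2, 3, 4, 5, 6, 8, 1, 2, 3, 4, 5, 6, 8, 1, 2, 3, 4, 5, 6, 8, 1, 2, 3, 4, 5, 6, 8, 1, 2, 3, 4, 5, 6, 8, 1, 2, 3, 4, 5, 6, 8, 7, 6, 5, 4, 3, 2, 1, 0, 8, 3, 2, 1, 4, 3, 5, 4, 9, 8, 3, 2],
    [9, 0, 1, 2, 3, 8, 5, 6, 4, 5, 2, 3, 4, 1, 2, 3, 8, 9, 8, 4, 5, 3, 4, 1, 2, 3, 8, 0, 1, 2, 3, 4, 5, 6, 7, 1, 2, 3, 4, 5, 6, 8, 1, 2, 3, 4, 5, 6, 8, 1, 2, 3, 4, 5, 6, 8, 1, 2, 3, 4, 5, 6, 8, 1, 2, 3, 4, 5, 6, 8, 1, 2, 3, 4, 5, 6, 8, 1, 2, 3, 4, 5, 6, 8, 1, 2, 3, 4, 5, 6, 8, 1, 2, 3, 4, 5, 6, 8, 7, 6, 5, 4, 3, 2, 1, 0, 8, 3, 2, 1, 4, 3, 5, 4, 8, 9, 8, 3, 2, 1, 4,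 3, 2, 5, 4, 6, 5, 8, 3, 2, 1, 0, 9],
    [9, 2, 3, 8, 6, 7, 5, 6, 4, 5, 2, 3, 4, 0, 1, 2, 3, 8, 9, 5, 2, 3, 4, 1, 2, 3, 8, 0, 1, 2, 3, 4, 5, 6, 7, 1, 2, 3, 4, 5, 6, 8, 1, 2, 3, 4, 5, 6, 8, 1, 2, 3, 4, 5, 6, 8, 1, 2, 3, 4, 5, 6, 8, 1, 2, 3, 4, 5, 6, 8, 1, 2, 3, 4, 5, 6, 8, 1, 2, 3, 4, 5, 6, 8, 1, 2, 3, 4, 5, 6, 8, 1, 2, 3, 4, 5, 6, 8, 7, 6, 5, 4, 3, 2, 1, 0, 8, 3, 2, 1, 4, 3, 2, 5, 9, 8, 3, 2, 1, 0, 4, 3, 2, 5, 4, 6, 5, 7, 6, 8, 3, 2, 9],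
    [9, 8, 7, 4, 5, 6, 3, 4, 5, 2, 3, 4, 1, 2, 3, 8, 9, 8, 5, 2, 3, 4, 1, 2, 3, 8, 0, 1, 2, 3, 4, 5, 6, 7, 1, 2, 3, 4, 5, 6, 8, 1, 2, 3, 4, 5, 6, 8, 1, 2, 3, 4, 5, 6, 8, 1, 2, 3, 4, 5, 6, 8, 1, 2, 3, 4, 5, 6, 8, 1, 2, 3, 4, 5, 6, 8, 1, 2, 3, 4, 5, 6, 8, 1, 2, 3, 4, 5, 6, 8, 1, 2, 3, 4, 5, 6, 8, 7, 6, 5, 4, 3, 2, 1, 0, 8, 3, 2, 1, 4, 3, 2, 5, 8, 9, 8, 3, 2, 1, 4, 3, 2, 5, 4, 3, 6, 5, 4, 7, 8, 9],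
    [8, 9, 0, 1, 2, 3, 8, 5, 6, 4, 5, 3, 4, 1, 2, 3, 8, 9, 6, 5, 3, 4, 1, 2, 3, 8, 0, 1, 2, 3, 4, 5, 6, 7, 1, 2, 3, 4, 5, 6, 8, 1, 2, 3, 4, 5, 6, 8, 1, 2, 3, 4, 5, 6, 8, 1, 2, 3, 4, 5, 6, 8, 1, 2, 3, 4, 5, 6, 8, 1, 2, 3, 4, 5, 6, 8, 1, 2, 3, 4, 5, 6, 8, 1, 2, 3, 4, 5, 6, 8, 1, 2, 3, 4, 5, 6, 8, 7, 6, 5, 4, 3, 2, 1, 0, 8, 3, 2, 1, 4, 3, 5, 6, 9, 8, 3, 2, 1, 4, 3, 5, 4, 6, 5, 8, 3, 2, 1, 0, 9, 8],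
    [9, 4, 3, 8, 5, 2, 3, 4, 1, 2, 3, 8, 9, 7, 6, 5, 3, 4, 1, 2, 3, 8, 0, 1, 2, 3, 4, 5, 6, 7, 1, 2, 3, 4, 5, 6, 8, 1, 2, 3, 4, 5, 6, 8, 1, 2, 3, 4, 5, 6, 8, 1, 2, 3, 4, 5, 6, 8, 1, 2, 3, 4, 5, 6, 8, 1, 2, 3, 4, 5, 6, 8, 1, 2, 3, 4, 5, 6, 8, 1, 2, 3, 4, 5, 6, 8, 1, 2, 3, 4, 5, 6, 8, 7, 6, 5, 4, 3, 2, 1, 0, 8, 3, 2, 1, 4, 3, 5, 6, 7, 9, 8, 3, 2, 1, 4, 3, 2, 5, 8, 3, 4, 9],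
    [9, 3, 8, 5, 6, 3, 4, 5, 2, 3, 4, 1, 2, 3, 8, 9, 8, 6, 4, 5, 3, 4, 1, 2, 3, 8, 0, 1, 2, 3, 4, 5, 6, 7, 1, 2, 3, 4, 5, 6, 8, 1, 2, 3, 4, 5, 6, 8, 1, 2, 3, 4, 5, 6, 8, 1, 2, 3, 4, 5, 6, 8, 1, 2, 3, 4, 5, 6, 8, 1, 2, 3, 4, 5, 6, 8, 1, 2, 3, 4, 5, 6, 8, 1, 2, 3, 4, 5, 6, 8, 1, 2, 3, 4, 5, 6, 8, 7, 6, 5, 4, 3, 2, 1, 0, 8, 3, 2, 1, 4, 3, 5, 4, 6, 8, 9, 8, 3, 2, 1, 4, 3, 2, 5, 4, 3, 6, 5, 8, 3, 9],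
    [8, 2, 3, 4, 0, 1, 2, 3, 8, 9, 4, 5, 3, 4, 1, 2, 3, 8, 0, 1, 2, 3, 4, 5, 6, 7, 1, 2, 3, 4, 5, 6, 8, 1, 2, 3, 4, 5, 6, 8, 1, 2, 3, 4, 5, 6, 8, 1, 2, 3, 4, 5, 6, 8, 1, 2, 3, 4, 5, 6, 8, 1, 2, 3, 4, 5, 6, 8, 1, 2, 3, 4, 5, 6, 8, 1, 2, 3, 4, 5, 6, 8, 1, 2, 3, 4, 5, 6, 8, 7, 6, 5, 4, 3, 2, 1, 0, 8, 3, 2, 1, 4, 3, 5, 4, 9, 8, 3, 2, 1, 0, 4, 3, 2, 8],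
    [6, 7, 1, 2, 3, 4, 5, 6, 8, 1, 2, 3, 4, 5, 6, 8, 1, 2, 3, 4, 5, 6, 8, 1, 2, 3, 4, 5, 6, 8, 1, 2, 3, 4, 5, 6, 8, 1, 2, 3, 4, 5, 6, 8, 1, 2, 3, 4, 5, 6, 8, 1, 2, 3, 4, 5, 6, 8, 1, 2, 3, 4, 5, 6, 8, 7, 6]]
  base := 4652
  size := 1680
  pts := fun j => force (get48 ptsStore3 j) fun e =>
    Nat.add (Nat.mul (Nat.div e 268435456) 1099511627776) (Nat.mod e 268435456)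
  pos := get48 posStore3

theorem gens3_ok : Cfsg.Agent.CosetCert.Fi23Index31671.data.checkGens [140, 488, 1126] level3 = true := by decide +kernel

theorem pts3At0 : allFrom (Cfsg.Agent.CosetCert.Fi23Index31671.data.checkPoint level3) 0 500 = true := by decide +kernel

theorem pts3At500 : allFrom (Cfsg.Agent.CosetCert.Fi23Index31671.data.checkPoint level3) 500 500 = true := by decide +kernel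

theorem pts3At1000 : allFrom (Cfsg.Agent.CosetCert.Fi23Index31671.data.checkPoint level3) 1000 500 = true := by decide +kernel

theorem pts3At1500 : allFrom (Cfsg.Agent.CosetCert.Fi23Index31671.data.checkPoint level3) 1500 180 = true := by decide +kernel

theorem pts3_ok : ∀ j, j < 1680 → (Cfsg.Agent.CosetCert.Fi23Index31671.data.checkPoint level3) j = true := by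
  have h0 : ∀ j, j < 0 → (Cfsg.Agent.CosetCert.Fi23Index31671.data.checkPoint level3) j = true := forall_lt_zero
  have h1 := forall_lt_step (b := 500) h0 pts3At0 rfl
  have h2 := forall_lt_step (b := 1000) h1 pts3At500 rfl
  have h3 := forall_lt_step (b := 1500) h2 pts3At1000 rfl
  have h4 := forall_lt_step (b := 1680) h3 pts3At1500 rfl
  exact h4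

end Cfsg.Agent.CosetCert.Fi23H10G
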