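import Cfsg.Agent.CosetCert.Pack

/-! Generated: orbit points. -/

set_option Elab.async false

namespace Cfsg.Agent.CosetCert.Fi23H10G

def ptsStore5 : Store := (.leaf 0x5091000010501b5f0000103052a00000005043670000004017820000003049f60000002016da000000100ca50000000001fb0000000)

end Cfsg.Agent.CosetCert.Fi23H10G
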