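import Cfsg.Agent.CosetCert.Fi23Index31671.Defs
import Cfsg.Agent.CosetCert.Lower
import Cfsg.Agent.CosetCert.Fi23H10G.Pts5
import Cfsg.Agent.CosetCert.Fi23H10G.Pos5

/-! Generated: one base point with its orbit. -/

set_option Elab.async false
set_option maxRecDepth 100000

namespace Cfsg.Agent.CosetCert.Fi23H10G

noncomputable def level5 : Data.Level where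
  gens := [
    [9, 8, 7, 4, 5, 6, 3, 4, 5, 2, 3, 4, 1, 2, 3, 8, 9, 8, 5, 2, 3, 4, 1, 2, 3, 8, 0, 1, 2, 3, 4, 5, 6, 7, 1, 2, 3, 4, 5, 6, 8, 1, 2, 3, 4, 5, 6, 8, 1, 2, 3, 4, 5, 6, 8, 1, 2, 3, 4, 5, 6, 8, 1, 2, 3, 4, 5, 6, 8, 1, 2, 3, 4, 5, 6, 8, 1, 2, 3, 4, 5, 6, 8, 1, 2, 3, 4, 5, 6, 8, 1, 2, 3, 4, 5, 6, 8, 7, 6, 5, 4, 3, 2, 1, 0, 8, 3, 2, 1, 4, 3, 2, 5, 8, 9, 8, 3, 2, 1, 4, 3, 2, 5, 4, 3, 6, 5, 4, 7, 8, 9],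
    [5, 4, 3, 8, 2, 3, 4, 1, 2, 3, 8, 9, 5, 2, 3, 4, 1, 2, 3, 8, 0, 1, 2, 3, 4, 5, 6, 7, 1, 2, 3, 4, 5, 6, 8, 1, 2, 3, 4, 5, 6, 8, 1, 2, 3, 4, 5, 6, 8, 1, 2, 3, 4, 5, 6, 8, 1, 2, 3, 4, 5, 6, 8, 1, 2, 3, 4, 5, 6, 8, 1, 2, 3, 4, 5, 6, 8, 1, 2, 3, 4, 5, 6, 8, 1, 2, 3, 4, 5, 6, 8, 7, 6, 5, 4, 3, 2, 1, 0, 8, 3, 2, 1, 4, 3, 2, 5, 9, 8, 3, 2, 1, 4, 3, 2, 8, 3, 4, 5],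
    [6, 5, 3, 4, 2, 3, 8, 9, 8, 7, 6, 5, 3, 4, 2, 3, 8, 1, 2, 3, 4, 5, 6, 7, 1, 2, 3, 4, 5, 6, 8, 1, 2, 3, 4, 5, 6, 8, 1, 2, 3, 4, 5, 6, 8, 1, 2, 3, 4, 5, 6, 8, 1, 2, 3, 4, 5, 6, 8, 1, 2, 3, 4, 5, 6, 8, 1, 2, 3, 4, 5, 6, 8, 1, 2, 3, 4, 5, 6, 8, 1, 2, 3, 4, 5, 6, 8, 7, 6, 5, 4, 3, 2, 1, 8, 3, 2, 4, 3, 5, 6, 7, 8, 9, 8, 3, 2, 4, 3, 5, 6],
    [9, 0, 1, 2, 3, 8, 5, 6, 4, 5, 2, 3, 4, 1, 2, 3, 8, 9, 8, 4, 5, 3, 4, 1, 2, 3, 8, 0, 1, 2, 3, 4, 5, 6, 7, 1, 2, 3, 4, 5, 6, 8, 1, 2, 3, 4, 5, 6, 8, 1, 2, 3, 4, 5, 6, 8, 1, 2, 3, 4, 5, 6, 8, 1, 2, 3, 4, 5, 6, 8, 1, 2, 3, 4, 5, 6, 8, 1, 2, 3, 4, 5, 6, 8, 1, 2, 3, 4, 5, 6, 8, 1, 2, 3, 4, 5, 6, 8, 7, 6, 5, 4, 3, 2, 1, 0, 8, 3, 2, 1, 4, 3, 5, 4, 8, 9, 8, 3, 2, 1, 4, 3,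 2, 5, 4, 6, 5, 8, 3, 2, 1, 0, 9],
    [2, 3, 8, 9, 4, 3, 8, 6, 5, 2, 3, 4, 0, 1, 2, 3, 8, 9, 6, 5, 2, 3, 4, 1, 2, 3, 8, 0, 1, 2, 3, 4, 5, 6, 7, 1, 2, 3, 4, 5, 6, 8, 1, 2, 3, 4, 5, 6, 8, 1, 2, 3, 4, 5, 6, 8, 1, 2, 3, 4, 5, 6, 8, 1, 2, 3, 4, 5, 6, 8, 1, 2, 3, 4, 5, 6, 8, 1, 2, 3, 4, 5, 6, 8, 1, 2, 3, 4, 5, 6, 8, 1, 2, 3, 4, 5, 6, 8, 7, 6, 5, 4, 3, 2, 1, 0, 8, 3, 2, 1, 4, 3, 2, 5, 6, 9, 8, 3, 2, 1, 0, 4, 3, 2, 5, 6, 8, 3, 4, 9, 8, 3, 2],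
    [6, 4, 5, 2, 3, 4, 0, 1, 2, 3, 8, 9, 5, 3, 4, 1, 2, 3, 8, 0, 1, 2, 3, 4, 5, 6, 7, 1, 2, 3, 4, 5, 6, 8, 1, 2, 3, 4, 5, 6, 8, 1, 2, 3, 4, 5, 6, 8, 1, 2, 3, 4, 5, 6, 8, 1, 2, 3, 4, 5, 6, 8, 1, 2, 3, 4, 5, 6, 8, 1, 2, 3, 4, 5, 6, 8, 1, 2, 3, 4, 5, 6, 8, 1, 2, 3, 4, 5, 6, 8, 7, 6, 5, 4, 3, 2, 1, 0, 8, 3, 2, 1, 4, 3, 5, 9, 8, 3, 2, 1, 0, 4, 3, 2, 5, 4, 6]]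
  base := 507
  size := 9
  pts := fun j => force (get48 ptsStore5 j) fun e =>
    Nat.add (Nat.mul (Nat.div e 268435456) 1099511627776) (Nat.mod e 268435456)
  pos := get48 posStore5

theorem gens5_ok : Cfsg.Agent.CosetCert.Fi23Index31671.data.checkGens [140, 488, 1126, 4652, 3623] level5 = true := by decide +kernel

theorem pts5At0 : allFrom (Cfsg.Agent.CosetCert.Fi23Index31671.data.checkPoint level5) 0 9 = true := by decide +kernel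

theorem pts5_ok : ∀ j, j < 9 → (Cfsg.Agent.CosetCert.Fi23Index31671.data.checkPoint level5) j = true := by
  have h0 : ∀ j, j < 0 → (Cfsg.Agent.CosetCert.Fi23Index31671.data.checkPoint level5) j = true := forall_lt_zero
  have h1 := forall_lt_step (b := 9) h0 pts5At0 rfl
  exact h1

end Cfsg.Agent.CosetCert.Fi23H10G
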