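import Cfsg.Agent.CosetCert.Pack

/-! Generated: orbit points. -/

set_option Elab.async false

namespace Cfsg.Agent.CosetCert.Fi23H10G

def ptsStore7 : Store := (.leaf 0x1503000000704ee0000000603705000000500994000000403243000000300e5800000020433e000000102aca00000000030f0000000)

end Cfsg.Agent.CosetCert.Fi23H10G
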