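import Cfsg.Agent.CosetCert.Fi23Index31671.Defs
import Cfsg.Agent.CosetCert.Lower
import Cfsg.Agent.CosetCert.Fi23H10G.Pts6
import Cfsg.Agent.CosetCert.Fi23H10G.Pos6

/-! Generated: one base point with its orbit. -/

set_option Elab.async false
set_option maxRecDepth 100000

namespace Cfsg.Agent.CosetCert.Fi23H10G

noncomputable def level6 : Data.Level where
  gens := [
    [9, 8, 4, 5, 2, 3, 4, 1, 2, 3, 8, 0, 1, 2, 3, 4, 5, 6, 7, 1, 2, 3, 4, 5, 6, 8, 1, 2, 3, 4, 5, 6, 8, 1, 2, 3, 4, 5, 6, 8, 1, 2, 3, 4, 5, 6, 8, 1, 2, 3, 4, 5, 6, 8, 1, 2, 3, 4, 5, 6, 8, 1, 2, 3, 4, 5, 6, 8, 1, 2, 3, 4, 5, 6, 8, 1, 2, 3, 4, 5, 6, 8, 7, 6, 5, 4, 3, 2, 1, 0, 8, 3, 2, 1, 4, 3, 2, 5, 4, 8, 9]]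
  base := 3237
  size := 2
  pts := fun j => force (get48 ptsStore6 j) fun e =>
    Nat.add (Nat.mul (Nat.div e 268435456) 1099511627776) (Nat.mod e 268435456)
  pos := get48 posStore6

theorem gens6_ok : Cfsg.Agent.CosetCert.Fi23Index31671.data.checkGens [140, 488, 1126, 4652, 3623, 507] level6 = true := by decide +kernel

theorem pts6At0 : allFrom (Cfsg.Agent.CosetCert.Fi23Index31671.data.checkPoint level6) 0 2 = true := by decide +kernel

theorem pts6_ok : ∀ j, j < 2 → (Cfsg.Agent.CosetCert.Fi23Index31671.data.checkPoint level6) j = true := by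
  have h0 : ∀ j, j < 0 → (Cfsg.Agent.CosetCert.Fi23Index31671.data.checkPoint level6) j = true := forall_lt_zero
  have h1 := forall_lt_step (b := 2) h0 pts6At0 rfl
  exact h1

end Cfsg.Agent.CosetCert.Fi23H10G
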